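import Groth.Agent.Proet.EtaleLift
import Groth.Agent.Proet.WEtaleProd
import Mathlib.RingTheory.Spectrum.Prime.Chevalley
import Mathlib.RingTheory.Flat.FaithfullyFlat.Algebra
import Mathlib.LinearAlgebra.TensorProduct.Prod

/-!
Gluing of etale-local data to one etale faithfully flat algebra; products and tensor products.
-/

namespace K867.Glue

universe u v w

open scoped TensorProduct

section glue

/-- a property of algebras over `S` stable under binary products, which holds etale-locally on
`Spec S`, holds for some etale faithfully flat algebra. -/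
theorem exists_etale_faithfullyFlat (S : Type u) [CommRing S]
    (P : ∀ (E : Type u) [CommRing E] [Algebra S E], Prop)
    (h0 : P PUnit.{u+1})
    (hprod : ∀ (E₁ E₂ : Type u) [CommRing E₁] [CommRing E₂] [Algebra S E₁] [Algebra S E₂],
      P E₁ → P E₂ → P (E₁ × E₂))
    (hloc : ∀ p : PrimeSpectrum S, ∃ (E : Type u) (_ : CommRing E) (_ : Algebra S E),
      Algebra.Etale S E ∧ p ∈ Set.range (PrimeSpectrum.comap (algebraMap S E)) ∧ P E) :
    ∃ (E : Type u) (_ : CommRing E) (_ : Algebra S E) (_ : Algebra.Etale S E)
      (_ : Module.FaithfullyFlat S E), P E := by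
  classical
  choose E i1 i2 het hmem hP using hloc
  -- finite subcover
  have hopen : ∀ p, IsOpen (Set.range (PrimeSpectrum.comap (algebraMap S (E p)))) := by
    intro p
    have := het p
    exact (PrimeSpectrum.isOpenMap_comap_of_hasGoingDown_of_finitePresentation
      (R := S) (S := E p)).isOpen_range
  obtain ⟨t, ht⟩ := (isCompact_univ (X := PrimeSpectrum S)).elim_finite_subcover
    (fun p => Set.range (PrimeSpectrum.comap (algebraMap S (E p)))) hopen
    (fun p _ => Set.mem_iUnion.2 ⟨p, hmem p⟩)
  -- build the product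
  have key : ∀ t : Finset (PrimeSpectrum S), ∃ (F : Type u) (_ : CommRing F) (_ : Algebra S F),
      Algebra.Etale S F ∧ P F ∧ ∀ p ∈ t, Set.range (PrimeSpectrum.comap (algebraMap S (E p))) ⊆
        Set.range (PrimeSpectrum.comap (algebraMap S F)) := by
    intro t
    induction t using Finset.induction_on with
    | empty =>
      refine ⟨PUnit.{u+1}, inferInstance, inferInstance, ?_, h0, fun p hp => by simp at hp⟩
      have h1 : IsLocalization.Away (0 : S) PUnit.{u+1} := by
        refine (isLocalization_iff _ _).2 ⟨?_, ?_, ?_⟩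
        · intro y; exact ⟨1, Subsingleton.elim _ _⟩
        · intro y; exact ⟨(0, 1), Subsingleton.elim _ _⟩
        · intro x y _; exact ⟨⟨0, ⟨1, by simp⟩⟩, by simp⟩
      exact Algebra.Etale.of_isLocalizationAway (0 : S)
    | insert p t hp ih =>
      obtain ⟨F, _, _, hF1, hF2, hF3⟩ := ih
      have := het p
      refine ⟨E p × F, inferInstance, inferInstance,
        Groth.Agent.Proet.EtaleLift.etale_prod _ _ _, hprod _ _ (hP p) hF2, ?_⟩
      intro q hq x hx
      rw [Groth.Agent.Proet.WEtaleProd.range_comap_prod]
      rcases Finset.mem_insert.1 hq with rfl | hq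
      · exact Or.inl hx
      · exact Or.inr (hF3 q hq hx)
  obtain ⟨F, _, _, hF1, hF2, hF3⟩ := key t
  refine ⟨F, inferInstance, inferInstance, hF1, ?_, hF2⟩
  have hfl : Module.Flat S F := inferInstance
  apply Module.FaithfullyFlat.of_comap_surjective
  intro p
  obtain ⟨q, hq⟩ := Set.mem_iUnion.1 (ht (Set.mem_univ p))
  obtain ⟨hqt, hq⟩ := Set.mem_iUnion.1 hq
  exact hF3 q hqt hq

end glue

section prod

variable (S : Type u) [CommRing S] (E₁ : Type v) (E₂ : Type v) [CommRing E₁] [CommRing E₂]
  [Algebra S E₁] [Algebra S E₂] (A : Type w) [Ring A] [Algebra S A]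

/-- tensor products distribute over products of the left factor, as rings. -/
noncomputable def prodTensor : (E₁ × E₂) ⊗[S] A ≃+* (E₁ ⊗[S] A) × (E₂ ⊗[S] A) :=
  { (TensorProduct.prodLeft S S E₁ E₂ A).toAddEquiv with
    map_mul' := by
      intro x y
      change TensorProduct.prodLeft S S E₁ E₂ A (x * y) =
        TensorProduct.prodLeft S S E₁ E₂ A x * TensorProduct.prodLeft S S E₁ E₂ A y
      induction x with
      | zero => rw [zero_mul, map_zero, zero_mul]
      | add x x' hx hx' => rw [add_mul, map_add, map_add, hx, hx', add_mul]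
      | tmul e a =>
        induction y with
        | zero => rw [mul_zero, map_zero, mul_zero]
        | add y y' hy hy' => rw [mul_add, map_add, map_add, hy, hy', mul_add]
        | tmul e' a' =>
          obtain ⟨e1, e2⟩ := e
          obtain ⟨e1', e2'⟩ := e'
          rw [Algebra.TensorProduct.tmul_mul_tmul, Prod.mk_mul_mk, TensorProduct.prodLeft_tmul,
            TensorProduct.prodLeft_tmul, TensorProduct.prodLeft_tmul, Prod.mk_mul_mk,
            Algebra.TensorProduct.tmul_mul_tmul, Algebra.TensorProduct.tmul_mul_tmul] }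

@[simp] lemma prodTensor_tmul (e : E₁ × E₂) (a : A) :
    prodTensor S E₁ E₂ A (e ⊗ₜ a) = (e.1 ⊗ₜ a, e.2 ⊗ₜ a) :=
  rfl

end prod

end K867.Glue
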