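import Groth.Prelude.Def_AzInv
import Groth.Agent.AzInv.K867.Glue
import Groth.Agent.RInv.K867.Basic
import Groth.Agent.RInv.K867.BaseChange
import Groth.Agent.Brauer.K438.AzConj

/-!
Automorphisms of Azumaya algebras over a ring with involution are inner etale-locally over the
fixed ring.
-/

namespace K867.Inner

universe u v w

open K867.Basic
open scoped TensorProduct

section fibre

variable {R : Type v} [CommRing R] {A : Type w} [Ring A] [Algebra R A] (q : Ideal R) [q.IsPrime]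

lemma tmul_smul_add (c c' : R) (hc' : c' ∈ q) (x x' : A) :
    (1 : q.ResidueField) ⊗ₜ[R] (c • x + c' • x') =
      algebraMap R q.ResidueField c • ((1 : q.ResidueField) ⊗ₜ[R] x) := by
  rw [TensorProduct.tmul_add, TensorProduct.tmul_smul, TensorProduct.tmul_smul,
    TensorProduct.smul_tmul', TensorProduct.smul_tmul', Algebra.smul_def, Algebra.smul_def,
    Ideal.algebraMap_residueField_eq_zero.2 hc', zero_mul, TensorProduct.zero_tmul, add_zero,
    TensorProduct.smul_tmul', smul_eq_mul]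

lemma isUnit_fibre (c c' : R) (hc : c ∉ q) (hc' : c' ∈ q) (x x' : A)
    (hx : IsUnit ((1 : q.ResidueField) ⊗ₜ[R] x)) :
    IsUnit ((1 : q.ResidueField) ⊗ₜ[R] (c • x + c' • x')) := by
  rw [tmul_smul_add q c c' hc', Algebra.smul_def]
  have h1 : algebraMap R q.ResidueField c ≠ 0 := by
    intro h
    exact hc (Ideal.algebraMap_residueField_eq_zero.1 h)
  exact ((IsUnit.mk0 _ h1).map _).mul hx

lemma isUnit_fibre_of_mul (x y : A) (f : R) (hf : f ∉ q) (h1 : x * y = algebraMap R A f)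
    (h2 : y * x = algebraMap R A f) : IsUnit ((1 : q.ResidueField) ⊗ₜ[R] x) := by
  have h3 : IsUnit ((1 : q.ResidueField) ⊗ₜ[R] (f • (1 : A) + (0 : R) • (0 : A))) :=
    isUnit_fibre q f 0 hf q.zero_mem 1 0 (by
      rw [← Algebra.TensorProduct.one_def]; exact isUnit_one)
  rw [zero_smul, add_zero, ← Algebra.algebraMap_eq_smul_one] at h3
  obtain ⟨u, hu⟩ := h3
  refine ⟨⟨(1 : q.ResidueField) ⊗ₜ[R] x, ((u⁻¹ : (q.ResidueField ⊗[R] A)ˣ) : q.ResidueField ⊗[R] A) *
    (1 : q.ResidueField) ⊗ₜ[R] y, ?_, ?_⟩, rfl⟩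
  · have h4 : (1 : q.ResidueField) ⊗ₜ[R] x * (u : q.ResidueField ⊗[R] A) =
        (u : q.ResidueField ⊗[R] A) * (1 : q.ResidueField) ⊗ₜ[R] x := by
      rw [hu, Algebra.TensorProduct.tmul_mul_tmul, Algebra.TensorProduct.tmul_mul_tmul,
        ← Algebra.commutes]
    have h5 : (1 : q.ResidueField) ⊗ₜ[R] x * ((u⁻¹ : (q.ResidueField ⊗[R] A)ˣ) :
        q.ResidueField ⊗[R] A) =
        ((u⁻¹ : (q.ResidueField ⊗[R] A)ˣ) : q.ResidueField ⊗[R] A) *
          (1 : q.ResidueField) ⊗ₜ[R] x := by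
      rw [Units.eq_inv_mul_iff_mul_eq, ← mul_assoc, ← h4, mul_assoc, Units.mul_inv, mul_one]
    rw [← mul_assoc, h5, mul_assoc, Algebra.TensorProduct.tmul_mul_tmul, h1, one_mul, ← hu,
      Units.inv_mul]
  · rw [mul_assoc, Algebra.TensorProduct.tmul_mul_tmul, h2, one_mul, ← hu, Units.inv_mul]

end fibre

section local_

variable {S : Type u} {R : Type v} [CommRing S] [CommRing R] [Algebra S R] {lam : R ≃+* R}
  {A : Type w} [Ring A] [Algebra R A]

/-- an element intertwining `ψ` and `id`, invertible at all the primes over `p`. -/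
theorem exists_intertwine (hlam : Function.Involutive lam) (hS : RInv.IsFixedRing S R lam)
    [IsAzumaya R A] (ψ : A →ₐ[R] A) (p : Ideal S) [p.IsPrime] :
    ∃ x : A, (∀ a, ψ a * x = x * a) ∧ ∀ (q : Ideal R) [q.IsPrime],
      q.comap (algebraMap S R) = p → IsUnit ((1 : q.ResidueField) ⊗ₜ[R] x) := by
  have := isIntegral hlam hS
  obtain ⟨q₁, -, hq₁, hq₁p⟩ := Ideal.exists_ideal_over_prime_of_isIntegral (R := S) (S := R) p ⊥
    (by
      rw [← RingHom.ker_eq_comap_bot, (RingHom.injective_iff_ker_eq_bot _).1 hS.1]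
      exact bot_le)
  have hconj : ∀ (q : Ideal R) [q.IsPrime], ∃ x : A, (∀ a, ψ a * x = x * a) ∧
      IsUnit ((1 : q.ResidueField) ⊗ₜ[R] x) := by
    intro q _
    obtain ⟨x, y, f, hf, hxy, hyx, hx⟩ := K438.AzConj.exists_conj q ψ (AlgHom.id R A)
    exact ⟨x, hx, isUnit_fibre_of_mul q x y f hf hxy hyx⟩
  obtain ⟨x₁, hx₁, hu₁⟩ := hconj q₁
  by_cases hlq : q₁.comap lam = q₁
  · refine ⟨x₁, hx₁, fun q _ hq => ?_⟩
    have : q = q₁ := by
      rcases eq_or_eq_comap hlam hS q₁ q (hq.trans hq₁p.symm) with h | h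
      · exact h
      · rw [h, hlq]
    subst this
    exact hu₁
  · have hq₂p : (q₁.comap lam).comap (algebraMap S R) = q₁.comap (algebraMap S R) := by
      ext s
      simp only [Ideal.mem_comap, lam_algebraMap hS]
    obtain ⟨x₂, hx₂, hu₂⟩ := hconj (q₁.comap lam)
    obtain ⟨c₁, hc₁, hc₁'⟩ : ∃ c, c ∈ q₁.comap lam ∧ c ∉ q₁ := by
      by_contra hcon
      push Not at hcon
      exact hlq (eq_of_le hlam hS q₁ (q₁.comap lam) hq₂p.ge hcon)
    obtain ⟨c₂, hc₂, hc₂'⟩ : ∃ c, c ∈ q₁ ∧ c ∉ q₁.comap lam := by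
      by_contra hcon
      push Not at hcon
      exact hlq (eq_of_le hlam hS (q₁.comap lam) q₁ hq₂p.le hcon).symm
    refine ⟨c₁ • x₁ + c₂ • x₂, fun a => ?_, fun q _ hq => ?_⟩
    · rw [mul_add, add_mul, mul_smul_comm, mul_smul_comm, smul_mul_assoc, smul_mul_assoc, hx₁, hx₂]
    · rcases eq_or_eq_comap hlam hS q₁ q (hq.trans hq₁p.symm) with h | h
      · subst h
        exact isUnit_fibre q c₁ c₂ hc₁' hc₂ x₁ x₂ hu₁
      · subst h
        rw [add_comm]
        exact isUnit_fibre _ c₂ c₁ hc₂' hc₁ x₂ x₁ hu₂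

/-- an element intertwining `ψ` and `id`, invertible near `p`. -/
theorem exists_intertwine_inverse (hlam : Function.Involutive lam) (hS : RInv.IsFixedRing S R lam)
    [IsAzumaya R A] (ψ : A →ₐ[R] A) (p : Ideal S) [p.IsPrime] :
    ∃ (x y : A) (s : S), s ∉ p ∧ x * y = algebraMap R A (algebraMap S R s) ∧
      y * x = algebraMap R A (algebraMap S R s) ∧ ∀ a, ψ a * x = x * a := by
  have := isIntegral hlam hS
  obtain ⟨x, hx, hu⟩ := exists_intertwine hlam hS ψ p
  let I : Ideal R :=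
    { carrier := {r | ∃ y : A, x * y = algebraMap R A r ∧ y * x = algebraMap R A r}
      add_mem' := by
        rintro r r' ⟨y, h1, h2⟩ ⟨y', h1', h2'⟩
        exact ⟨y + y', by rw [mul_add, h1, h1', map_add], by rw [add_mul, h2, h2', map_add]⟩
      zero_mem' := ⟨0, by simp, by simp⟩
      smul_mem' := by
        rintro c r ⟨y, h1, h2⟩
        exact ⟨c • y, by rw [mul_smul_comm, h1, smul_eq_mul, map_mul, Algebra.smul_def],
          by rw [smul_mul_assoc, h2, smul_eq_mul, map_mul, Algebra.smul_def]⟩ }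
  by_contra hcon
  push Not at hcon
  have hdis : Disjoint (I : Set R) (Algebra.algebraMapSubmonoid R p.primeCompl : Set R) := by
    rw [Set.disjoint_left]
    rintro _ ⟨y, h1, h2⟩ ⟨t, ht, rfl⟩
    obtain ⟨a, ha⟩ := hcon x y t ht h1 h2
    exact ha (hx a)
  obtain ⟨q, hq, hle, hdis'⟩ := Ideal.exists_le_prime_disjoint _ _ hdis
  have hqp : q.comap (algebraMap S R) ≤ p := by
    intro s hs
    by_contra hsp
    exact Set.disjoint_left.1 hdis' hs ⟨s, hsp, rfl⟩
  obtain ⟨q', hq'le, hq', hq'p⟩ := Ideal.exists_ideal_over_prime_of_isIntegral p q hqp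
  obtain ⟨y, f, hf, h1, h2⟩ := K438.AzConj.exists_inverse q' x (hu q' hq'p)
  exact hf (hq'le (hle ⟨y, h1, h2⟩))

end local_

section global

variable {S : Type u} {R : Type v} [CommRing S] [CommRing R] [Algebra S R]
  {A : Type w} [Ring A] [Algebra S A] [Algebra R A] [IsScalarTower S R A]

variable (S) in
/-- `ψ` becomes inner over `E`. -/
def IsInner (ψ : A ≃ₐ[R] A) (E : Type u) [CommRing E] [Algebra S E] : Prop :=
  ∃ u : (E ⊗[S] A)ˣ, ∀ a : A, ((1 : E) ⊗ₜ[S] ψ a) * (u : E ⊗[S] A) = u * ((1 : E) ⊗ₜ[S] a)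

lemma conj_of_isInner (ψ : A ≃ₐ[R] A) (E : Type u) [CommRing E] [Algebra S E]
    (u : (E ⊗[S] A)ˣ)
    (hu : ∀ a : A, ((1 : E) ⊗ₜ[S] ψ a) * (u : E ⊗[S] A) = u * ((1 : E) ⊗ₜ[S] a))
    (x : E ⊗[S] A) :
    Algebra.TensorProduct.congr (AlgEquiv.refl : E ≃ₐ[E] E) (ψ.restrictScalars S) x =
            ↑u * x * ↑u⁻¹ := by
  induction x with
  | zero => simp
  | add x y hx hy => rw [map_add, hx, hy, mul_add, add_mul]
  | tmul e a =>
    have h1 : e ⊗ₜ[S] a = e • ((1 : E) ⊗ₜ[S] a) := by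
      rw [TensorProduct.smul_tmul', smul_eq_mul, mul_one]
    rw [h1, map_smul, mul_smul_comm, smul_mul_assoc, ← hu a, mul_assoc, Units.mul_inv, mul_one]
    simp

omit [Algebra S R] [IsScalarTower S R A] in
lemma isInner_punit (ψ : A ≃ₐ[R] A) : IsInner S ψ PUnit.{u+1} := by
  have : Subsingleton (PUnit.{u+1} ⊗[S] A) := by
    refine ⟨fun a b => ?_⟩
    have h : ∀ a : PUnit.{u+1} ⊗[S] A, a = 0 := by
      intro a
      induction a with
      | zero => rfl
      | add x y hx hy => rw [hx, hy, add_zero]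
      | tmul e a =>
        rw [Subsingleton.elim e 0, TensorProduct.zero_tmul]
    rw [h a, h b]
  exact ⟨1, fun a => Subsingleton.elim _ _⟩

omit [Algebra S R] [IsScalarTower S R A] in
lemma isInner_prod (ψ : A ≃ₐ[R] A) (E₁ E₂ : Type u) [CommRing E₁] [CommRing E₂] [Algebra S E₁]
    [Algebra S E₂] (h₁ : IsInner S ψ E₁) (h₂ : IsInner S ψ E₂) : IsInner S ψ (E₁ × E₂) := by
  obtain ⟨u₁, hu₁⟩ := h₁
  obtain ⟨u₂, hu₂⟩ := h₂
  let e := K867.Glue.prodTensor S E₁ E₂ A
  refine ⟨(Units.mapEquiv e.toMulEquiv).symm (MulEquiv.prodUnits.symm (u₁, u₂)), fun a => ?_⟩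
  apply e.injective
  have h3 : e (((Units.mapEquiv e.toMulEquiv).symm (MulEquiv.prodUnits.symm (u₁, u₂)) :
      ((E₁ × E₂) ⊗[S] A)ˣ) : (E₁ × E₂) ⊗[S] A) = (↑u₁, ↑u₂) := by
    change e (e.symm _) = _
    rw [RingEquiv.apply_symm_apply]
    rfl
  rw [map_mul, map_mul, h3, K867.Glue.prodTensor_tmul, K867.Glue.prodTensor_tmul]
  ext
  · exact hu₁ a
  · exact hu₂ a

theorem exists_isInner {lam : R ≃+* R} (hlam : Function.Involutive lam)
    (hS : RInv.IsFixedRing S R lam) [IsAzumaya R A] (ψ : A ≃ₐ[R] A) :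
    ∃ (E : Type u) (_ : CommRing E) (_ : Algebra S E) (_ : Algebra.Etale S E)
      (_ : Module.FaithfullyFlat S E), IsInner S ψ E := by
  refine K867.Glue.exists_etale_faithfullyFlat S (fun E _ _ => IsInner S ψ E) (isInner_punit ψ)
    (fun E₁ E₂ _ _ _ _ h₁ h₂ => isInner_prod ψ E₁ E₂ h₁ h₂) ?_
  intro p
  obtain ⟨x, y, s, hs, h1, h2, h3⟩ := exists_intertwine_inverse hlam hS ψ.toAlgHom p.asIdeal
  refine ⟨Localization.Away s, inferInstance, inferInstance,
    Algebra.Etale.of_isLocalizationAway s, ?_, ?_⟩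
  · rw [PrimeSpectrum.localization_away_comap_range (Localization.Away s) s]
    exact hs
  · have hsu : IsUnit (algebraMap S (Localization.Away s) s) :=
      IsLocalization.Away.algebraMap_isUnit s
    obtain ⟨c, hc⟩ := hsu.exists_left_inv
    have hts : ∀ a : A, c ⊗ₜ[S] (algebraMap S A s * a) = (1 : Localization.Away s) ⊗ₜ[S] a := by
      intro a
      rw [← Algebra.smul_def, TensorProduct.tmul_smul, TensorProduct.smul_tmul', Algebra.smul_def,
        mul_comm, hc]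
    rw [← IsScalarTower.algebraMap_apply] at h1 h2
    refine ⟨⟨(1 : Localization.Away s) ⊗ₜ[S] x, c ⊗ₜ[S] y, ?_, ?_⟩, fun a => ?_⟩
    · rw [Algebra.TensorProduct.tmul_mul_tmul, h1, one_mul, ← mul_one (algebraMap S A s), hts]
      rfl
    · rw [Algebra.TensorProduct.tmul_mul_tmul, h2, mul_one, ← mul_one (algebraMap S A s), hts]
      rfl
    · change ((1 : Localization.Away s) ⊗ₜ[S] ψ a) * ((1 : Localization.Away s) ⊗ₜ[S] x) =
        ((1 : Localization.Away s) ⊗ₜ[S] x) * ((1 : Localization.Away s) ⊗ₜ[S] a)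
      rw [Algebra.TensorProduct.tmul_mul_tmul, Algebra.TensorProduct.tmul_mul_tmul]
      exact congrArg _ (h3 a)

end global

end K867.Inner
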