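import Groth.Agent.AzInv.K867.Inner

/-!
Etale-locally, automorphisms of an Azumaya algebra with involution are inner by unitary elements.
-/

namespace K867.Unitary

universe u v w u'

open K867.Basic
open scoped TensorProduct

section central

variable {S : Type u} {R : Type v} [CommRing S] [CommRing R] [Algebra S R]
  {A : Type w} [Ring A] [Algebra S A] [Algebra R A] [IsScalarTower S R A]
  {S' : Type u'} [CommRing S'] [Algebra S S']

/-- elements of `S' ⊗[S] A` commuting with `A` come from `S' ⊗[S] R`, and `S' ⊗[S] R` injects. -/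
theorem exists_of_commute [IsAzumaya R A] {c : S' ⊗[S] A}
    (hc : ∀ a : A, c * ((1 : S') ⊗ₜ[S] a) = ((1 : S') ⊗ₜ[S] a) * c) :
    ∃ r : S' ⊗[S] R, (IsScalarTower.toAlgHom S R A).toLinearMap.lTensor S' r = c := by
  obtain ⟨n, x, y, hxy, hsep⟩ := K438.AzBasic.exists_sep (R := R) (A := A)
  have hcen : ∀ m : A, ∃ r : R, algebraMap R A r = ∑ i, x i * m * y i := by
    intro m
    refine K438.AzBasic.mem_range_of_central (R := R) (A := A) fun a => ?_
    exact (K438.AzBasic.intertwine hsep (AlgHom.id R A) (AlgHom.id R A) m a).symm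
  choose ε hε using hcen
  have hinj : Function.Injective (algebraMap R A) := FaithfulSMul.algebraMap_injective R A
  let εl : A →ₗ[S] R :=
    { toFun := ε
      map_add' := by
        intro a b
        apply hinj
        rw [map_add, hε, hε, hε, ← Finset.sum_add_distrib]
        exact Finset.sum_congr rfl fun i _ => by rw [mul_add, add_mul]
      map_smul' := by
        intro s a
        apply hinj
        rw [RingHom.id_apply, Algebra.smul_def (A := R), map_mul,
          ← IsScalarTower.algebraMap_apply, hε, hε, ← Algebra.smul_def, Finset.smul_sum]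
        exact Finset.sum_congr rfl fun i _ => by rw [mul_smul_comm, smul_mul_assoc] }
  refine ⟨εl.lTensor S' c, ?_⟩
  have h1 : ∀ z : S' ⊗[S] A, (IsScalarTower.toAlgHom S R A).toLinearMap.lTensor S'
      (εl.lTensor S' z) = ∑ i, ((1 : S') ⊗ₜ[S] x i) * z * ((1 : S') ⊗ₜ[S] y i) := by
    intro z
    induction z with
    | zero => simp
    | add z w hz hw =>
      rw [map_add, map_add, hz, hw, ← Finset.sum_add_distrib]
      exact Finset.sum_congr rfl fun i _ => by rw [mul_add, add_mul]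
    | tmul e a =>
      rw [LinearMap.lTensor_tmul, LinearMap.lTensor_tmul]
      change e ⊗ₜ[S] (algebraMap R A (ε a)) = _
      rw [hε, TensorProduct.tmul_sum]
      refine Finset.sum_congr rfl fun i _ => ?_
      rw [Algebra.TensorProduct.tmul_mul_tmul, Algebra.TensorProduct.tmul_mul_tmul, one_mul,
        mul_one]
  rw [h1]
  calc ∑ i, ((1 : S') ⊗ₜ[S] x i) * c * ((1 : S') ⊗ₜ[S] y i)
      = ∑ i, c * ((1 : S') ⊗ₜ[S] (x i * y i)) := by
        refine Finset.sum_congr rfl fun i _ => ?_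
        rw [← hc, mul_assoc, Algebra.TensorProduct.tmul_mul_tmul, one_mul]
    _ = c := by
        rw [← Finset.mul_sum, ← TensorProduct.tmul_sum, hxy, ← Algebra.TensorProduct.one_def,
          mul_one]

theorem lTensor_injective [IsAzumaya R A] :
    Function.Injective ((IsScalarTower.toAlgHom S R A).toLinearMap.lTensor S') := by
  obtain ⟨f, hf⟩ := K444.AzData.exists_linear_one (R := R) (A := A)
  have h : ∀ z, (f.restrictScalars S).lTensor S'
      ((IsScalarTower.toAlgHom S R A).toLinearMap.lTensor S' z) = z := by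
    intro z
    rw [← LinearMap.comp_apply, ← LinearMap.lTensor_comp]
    have : (f.restrictScalars S) ∘ₗ (IsScalarTower.toAlgHom S R A).toLinearMap =
        (LinearMap.id : R →ₗ[S] R) := by
      ext r
      change f (algebraMap R A r) = r
      rw [Algebra.algebraMap_eq_smul_one, map_smul, hf, smul_eq_mul, mul_one]
    rw [this, LinearMap.lTensor_id, LinearMap.id_apply]
  exact Function.LeftInverse.injective h

variable {lam : R ≃ₐ[S] R}

theorem bc_lTensor (t : AzInv.LamInv R A lam) (r : S' ⊗[S] R) :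
    t.bc S lam S' ((IsScalarTower.toAlgHom S R A).toLinearMap.lTensor S' r) =
      (IsScalarTower.toAlgHom S R A).toLinearMap.lTensor S' (lam.toLinearMap.lTensor S' r) := by
  induction r with
  | zero => simp
  | add z w hz hw => simp only [map_add, hz, hw]
  | tmul e a =>
    rw [LinearMap.lTensor_tmul, LinearMap.lTensor_tmul, LinearMap.lTensor_tmul,
      AzInv.LamInv.bc_tmul]
    exact congrArg _ (t.map_algebraMap a)

theorem bc_mul (t : AzInv.LamInv R A lam) (x y : S' ⊗[S] A) :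
    t.bc S lam S' (x * y) = t.bc S lam S' y * t.bc S lam S' x := by
  induction x with
  | zero => simp
  | add z w hz hw => rw [add_mul, map_add, map_add, hz, hw, mul_add]
  | tmul e a =>
    induction y with
    | zero => simp
    | add z w hz hw => rw [mul_add, map_add, map_add, hz, hw, add_mul]
    | tmul e' a' =>
      rw [Algebra.TensorProduct.tmul_mul_tmul, AzInv.LamInv.bc_tmul, AzInv.LamInv.bc_tmul,
        AzInv.LamInv.bc_tmul, Algebra.TensorProduct.tmul_mul_tmul, t.map_mul, mul_comm]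

theorem bc_bc (t : AzInv.LamInv R A lam) (x : S' ⊗[S] A) :
    t.bc S lam S' (t.bc S lam S' x) = x := by
  induction x with
  | zero => simp
  | add z w hz hw => rw [map_add, map_add, hz, hw]
  | tmul e a => rw [AzInv.LamInv.bc_tmul, AzInv.LamInv.bc_tmul, t.invol]

theorem bc_one (t : AzInv.LamInv R A lam) : t.bc S lam S' 1 = 1 := by
  rw [Algebra.TensorProduct.one_def, AzInv.LamInv.bc_tmul, t.map_one]

/-- elements commuting with `A` and fixed by the involution come from `S'`. -/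
theorem exists_of_commute_of_fixed [IsAzumaya R A] (hlam : Function.Involutive lam)
    (hS : RInv.IsFixedRing S R lam.toRingEquiv) [Module.Flat S S'] (t : AzInv.LamInv R A lam)
    {c : S' ⊗[S] A} (hc : ∀ a : A, c * ((1 : S') ⊗ₜ[S] a) = ((1 : S') ⊗ₜ[S] a) * c)
    (htc : t.bc S lam S' c = c) : ∃ s : S', c = s ⊗ₜ[S] 1 := by
  obtain ⟨r, rfl⟩ := exists_of_commute (R := R) hc
  rw [bc_lTensor] at htc
  have h1 := lTensor_injective htc
  have h2 := K867.BaseChange.isFixedRing_baseChange' (S' := S') hlam hS (Or.inl inferInstance)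
  obtain ⟨s, hs⟩ := (h2.2 r).1 ((K867.BaseChange.congr_apply' r).trans h1)
  refine ⟨s, ?_⟩
  rw [← hs, K867.BaseChange.algebraMap_eq_lTensor, LinearMap.lTensor_tmul, LinearMap.lTensor_tmul]
  change s ⊗ₜ[S] (algebraMap R A (algebraMap S R 1)) = _
  rw [map_one, map_one]

theorem tmul_one_injective [IsAzumaya R A] (hlam : Function.Involutive lam)
    (hS : RInv.IsFixedRing S R lam.toRingEquiv) [Module.Flat S S'] {s s' : S'}
    (h : s ⊗ₜ[S] (1 : A) = s' ⊗ₜ[S] (1 : A)) : s = s' := by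
  have h2 := K867.BaseChange.isFixedRing_baseChange' (S' := S') hlam hS (Or.inl inferInstance)
  apply h2.1
  apply lTensor_injective (R := R) (A := A)
  have h3 : ∀ s : S', (IsScalarTower.toAlgHom S R A).toLinearMap.lTensor S'
      (algebraMap S' (S' ⊗[S] R) s) = s ⊗ₜ[S] (1 : A) := by
    intro s
    rw [Algebra.TensorProduct.algebraMap_apply, LinearMap.lTensor_tmul, Algebra.algebraMap_self,
      RingHom.id_apply]
    change s ⊗ₜ[S] (algebraMap R A 1) = _
    rw [map_one]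
  rw [h3, h3, h]

end central

section sqrt

variable {S : Type u} {R : Type v} [CommRing S] [CommRing R] [Algebra S R]
  {A : Type w} [Ring A] [Algebra S A] [Algebra R A] [IsScalarTower S R A]

/-- the transition map. -/
noncomputable def trans {E F : Type u} [CommRing E] [CommRing F] [Algebra S E] [Algebra S F]
    (g : E →ₐ[S] F) : E ⊗[S] A →ₐ[S] F ⊗[S] A :=
  Algebra.TensorProduct.map g (AlgHom.id S A)

omit [Algebra R A] [CommRing R] [Algebra S R] [IsScalarTower S R A] in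
@[simp] lemma trans_tmul {E F : Type u} [CommRing E] [CommRing F] [Algebra S E] [Algebra S F]
    (g : E →ₐ[S] F) (e : E) (a : A) : trans g (e ⊗ₜ[S] a) = g e ⊗ₜ[S] a := by
  simp [trans]

theorem bc_trans {lam : R ≃ₐ[S] R} (t : AzInv.LamInv R A lam) {E F : Type u} [CommRing E]
    [CommRing F] [Algebra S E] [Algebra S F]
    (g : E →ₐ[S] F) (x : E ⊗[S] A) :
    t.bc S lam F (trans g x) = trans g (t.bc S lam E x) := by
  induction x with
  | zero => simp
  | add z w hz hw => simp only [map_add, hz, hw]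
  | tmul e a => rw [trans_tmul, AzInv.LamInv.bc_tmul, AzInv.LamInv.bc_tmul, trans_tmul]

theorem main {lam : R ≃ₐ[S] R} (hlam : ∀ r, lam (lam r) = r)
    (hfix : RInv.IsFixedRing S R lam.toRingEquiv)
    (hsq : ∀ (S₁ : Type u) [CommRing S₁] [Algebra S S₁] [Algebra.Etale S S₁] (x : S₁ˣ),
      ∃ (S₂ : Type u) (_ : CommRing S₂) (_ : Algebra S₁ S₂) (_ : Algebra.Etale S₁ S₂)
        (_ : Module.FaithfullyFlat S₁ S₂) (y : S₂), y * y = algebraMap S₁ S₂ ↑x)
    [IsAzumaya R A] (t : AzInv.LamInv R A lam)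
    (ψ : A ≃ₐ[R] A) (hψ : AzInv.IsInvHom t t ψ) :
    ∃ (S' : Type u) (_ : CommRing S') (_ : Algebra S S') (_ : Algebra.Etale S S')
      (_ : Module.FaithfullyFlat S S') (u : (S' ⊗[S] A)ˣ),
      t.bc S lam S' (↑u : S' ⊗[S] A) * ↑u = 1 ∧
        ∀ a : A, ((1 : S') ⊗ₜ[S] ψ a) * (u : S' ⊗[S] A) = u * ((1 : S') ⊗ₜ[S] a) := by
  obtain ⟨E, i1, i2, i3, i4, u, hu⟩ := K867.Inner.exists_isInner (S := S)
    (lam := lam.toRingEquiv) hlam hfix ψ
  let T := t.bc S lam E
  have hTu : T (u⁻¹ : (E ⊗[S] A)ˣ) * T u = 1 := by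
    rw [← bc_mul, Units.mul_inv, bc_one]
  have hTu' : T u * T (u⁻¹ : (E ⊗[S] A)ˣ) = 1 := by
    rw [← bc_mul, Units.inv_mul, bc_one]
  let v : (E ⊗[S] A)ˣ := ⟨T u, T (u⁻¹ : (E ⊗[S] A)ˣ), hTu', hTu⟩
  -- `T u * u` is central
  have hcomm : ∀ a : A, (v * u : (E ⊗[S] A)ˣ) * ((1 : E) ⊗ₜ[S] a) =
      ((1 : E) ⊗ₜ[S] a) * (v * u : (E ⊗[S] A)ˣ) := by
    intro a
    have h1 := congrArg T (hu (t a))
    rw [bc_mul, bc_mul, AzInv.LamInv.bc_tmul, AzInv.LamInv.bc_tmul, t.invol, ← hψ, t.invol] at h1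
    calc ((v * u : (E ⊗[S] A)ˣ) : E ⊗[S] A) * ((1 : E) ⊗ₜ[S] a)
        = T u * (u * ((1 : E) ⊗ₜ[S] a)) := by rw [Units.val_mul, mul_assoc]
      _ = T u * ((1 : E) ⊗ₜ[S] ψ a) * u := by rw [← hu, mul_assoc]
      _ = ((1 : E) ⊗ₜ[S] a) * (v * u : (E ⊗[S] A)ˣ) := by
        rw [h1, mul_assoc]; rfl
  have hfixed : T (v * u : (E ⊗[S] A)ˣ) = (v * u : (E ⊗[S] A)ˣ) := by
    change T (T u * u) = T u * u
    rw [bc_mul, bc_bc]
  obtain ⟨s, hs⟩ := exists_of_commute_of_fixed (S' := E) hlam hfix t hcomm hfixed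
  have hcomm' : ∀ a : A, ((v * u)⁻¹ : (E ⊗[S] A)ˣ) * ((1 : E) ⊗ₜ[S] a) =
      ((1 : E) ⊗ₜ[S] a) * ((v * u)⁻¹ : (E ⊗[S] A)ˣ) := by
    intro a
    rw [Units.inv_mul_eq_iff_eq_mul, ← mul_assoc, hcomm a, mul_assoc, Units.mul_inv, mul_one]
  have hfixed' : T ((v * u)⁻¹ : (E ⊗[S] A)ˣ) = ((v * u)⁻¹ : (E ⊗[S] A)ˣ) := by
    have h1 : T ((v * u)⁻¹ : (E ⊗[S] A)ˣ) * (v * u : (E ⊗[S] A)ˣ) = 1 := by
      conv_lhs => rw [← hfixed]
      rw [← bc_mul, Units.mul_inv, bc_one]
    exact Units.eq_inv_of_mul_eq_one_right h1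
  obtain ⟨s', hs'⟩ := exists_of_commute_of_fixed (S' := E) hlam hfix t hcomm' hfixed'
  have hss : s * s' = 1 := by
    apply tmul_one_injective (A := A) hlam hfix
    have : ((v * u : (E ⊗[S] A)ˣ) : E ⊗[S] A) * ((v * u)⁻¹ : (E ⊗[S] A)ˣ) = 1 := Units.mul_inv _
    rw [hs, hs', Algebra.TensorProduct.tmul_mul_tmul, mul_one] at this
    rw [this, Algebra.TensorProduct.one_def]
  obtain ⟨F, j1, j2, j3, j4, y, hy⟩ := hsq E ⟨s, s', hss, by rw [mul_comm, hss]⟩
  let _ : Algebra S F := ((algebraMap E F).comp (algebraMap S E)).toAlgebra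
  have : IsScalarTower S E F := IsScalarTower.of_algebraMap_eq' rfl
  have k1 : Algebra.Etale S F := Algebra.Etale.comp S E F
  have k2 : Module.FaithfullyFlat S F := Module.FaithfullyFlat.trans S E F
  let g : E →ₐ[S] F := IsScalarTower.toAlgHom S E F
  have hyu : IsUnit y := by
    refine isUnit_of_mul_isUnit_left (y := y) ?_
    rw [hy]
    exact (Units.isUnit (⟨s, s', hss, by rw [mul_comm, hss]⟩ : Eˣ)).map (algebraMap E F)
  obtain ⟨z, hz⟩ := hyu.exists_left_inv
  have hz' : (z * z) * g s = 1 := by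
    change (z * z) * algebraMap E F s = 1
    rw [← hy]
    linear_combination (1 + z * y) * hz
  let U : (F ⊗[S] A)ˣ := ⟨(z ⊗ₜ[S] 1) * trans g u, (y ⊗ₜ[S] 1) * trans g (u⁻¹ : (E ⊗[S] A)ˣ), by
      have h1 : ∀ (w : F) (x : F ⊗[S] A), (w ⊗ₜ[S] 1) * x = x * (w ⊗ₜ[S] 1) := by
        intro w x
        exact Algebra.commutes (R := F) w x
      rw [mul_assoc, ← mul_assoc (trans g _), ← h1, mul_assoc, ← map_mul, Units.mul_inv, map_one,
        mul_one, Algebra.TensorProduct.tmul_mul_tmul, hz, mul_one]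
      rfl, by
      have h1 : ∀ (w : F) (x : F ⊗[S] A), (w ⊗ₜ[S] 1) * x = x * (w ⊗ₜ[S] 1) := by
        intro w x
        exact Algebra.commutes (R := F) w x
      rw [mul_assoc, ← mul_assoc (trans g _), ← h1, mul_assoc, ← map_mul, Units.inv_mul, map_one,
        mul_one, Algebra.TensorProduct.tmul_mul_tmul, mul_comm, hz, mul_one]
      rfl⟩
  have h1 : ∀ (w : F) (x : F ⊗[S] A), (w ⊗ₜ[S] 1) * x = x * (w ⊗ₜ[S] 1) := by
    intro w x
    exact Algebra.commutes (R := F) w x
  refine ⟨F, j1, inferInstance, k1, k2, U, ?_, fun a => ?_⟩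
  · change t.bc S lam F ((z ⊗ₜ[S] 1) * trans g u) * ((z ⊗ₜ[S] 1) * trans g u) = 1
    rw [bc_mul, AzInv.LamInv.bc_tmul, t.map_one, bc_trans, mul_assoc, ← mul_assoc (z ⊗ₜ[S] (1 : A)),
      Algebra.TensorProduct.tmul_mul_tmul, mul_one, h1, ← mul_assoc, ← map_mul]
    have h3 : t.bc S lam E (u : E ⊗[S] A) * (u : E ⊗[S] A) = s ⊗ₜ[S] 1 := hs
    rw [h3, trans_tmul, Algebra.TensorProduct.tmul_mul_tmul, mul_one, mul_comm, hz']
    rfl
  · change ((1 : F) ⊗ₜ[S] ψ a) * ((z ⊗ₜ[S] 1) * trans g u) =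
      ((z ⊗ₜ[S] 1) * trans g u) * ((1 : F) ⊗ₜ[S] a)
    have h4 : trans g (((1 : E) ⊗ₜ[S] ψ a) * (u : E ⊗[S] A)) =
      trans g ((u : E ⊗[S] A) * ((1 : E) ⊗ₜ[S] a)) := by rw [hu]
    rw [map_mul, map_mul, trans_tmul, trans_tmul, map_one] at h4
    rw [← mul_assoc, ← h1, mul_assoc, h4, mul_assoc]

end sqrt

end K867.Unitary
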